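import Groth.Agent.HomogOrbit27.Max
import Mathlib.AlgebraicGeometry.Fiber
import Mathlib.AlgebraicGeometry.Morphisms.Finite
import Mathlib.AlgebraicGeometry.Morphisms.QuasiFinite

/-!
# Base change along a closed point of a fibre

For a point `y` of a fibre `Y_s` the projection `y ×_S Z ⟶ Z` factors as a flat morphism to `Z_s`
followed by the inclusion; it is finite when `y` is closed in `Y_s` and `Y_s` is locally of finite
type.
-/

set_option autoImplicit false
universe u

open CategoryTheory MonoidalCategory CartesianMonoidalCategory AlgebraicGeometry Limits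

namespace Groth.Agent.HomogOrbit27

open Groth.Agent.GrpScheme

variable {S : Scheme.{u}}

/-- A point of a scheme locally of finite type over a field which is closed has finite residue
extension. -/
lemma isFinite_residueFieldMap {Y : Scheme.{u}} (f : Y ⟶ S) {s : S} (y : Y) (hy : f y = s)
    (hft : LocallyOfFiniteType (f.fiberToSpecResidueField s))
    (hcl : IsClosed ((Subtype.val : ↥(f.base ⁻¹' {s}) → Y) ⁻¹' {y})) :
    IsFinite (Spec.map (f.residueFieldMap y)) := by
  subst hy
  rw [← f.asFiberHom_fiberToSpecResidueField y]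
  have : IsPreimmersion (f.asFiberHom y ≫ f.fiberι (f y)) := by
    rw [f.asFiberHom_fiberι]; infer_instance
  have : IsPreimmersion (f.asFiberHom y) := IsPreimmersion.of_comp _ (f.fiberι _)
  have : IsClosedImmersion (f.asFiberHom y) := IsClosedImmersion.of_isPreimmersion _ (by
    have h : Set.range (f.asFiberHom y) = (f.fiberHomeo (f y)) ⁻¹' (Subtype.val ⁻¹' {y}) := by
      ext w
      constructor
      · rintro ⟨t, rfl⟩
        show f.fiberι (f y) (f.asFiberHom y t) = y
        rw [← Scheme.Hom.comp_apply, f.asFiberHom_fiberι, Scheme.fromSpecResidueField_apply]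
      · intro hw
        obtain ⟨t⟩ := (inferInstance : Nonempty (Spec (Y.residueField y)))
        refine ⟨t, (f.fiberι (f y)).isEmbedding.injective ?_⟩
        rw [← Scheme.Hom.comp_apply, f.asFiberHom_fiberι, Scheme.fromSpecResidueField_apply]
        exact hw.symm
    rw [h]
    exact hcl.preimage (f.fiberHomeo (f y)).continuous)
  have : LocallyOfFiniteType (f.fiberToSpecResidueField (f y)) := hft
  rw [isFinite_iff_locallyOfFiniteType_of_jacobsonSpace]
  infer_instance

/-- The projection from a point times `Z` factors through the fibre of `Z`. -/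
lemma exists_toFibre {Y Z : Over S} (y : Y.left) {s : S} (hy : Y.hom y = s) :
    ∃ F : (Points.pointObj Y y ⊗ Z).left ⟶ Z.hom.fiber s,
      F ≫ Z.hom.fiberι s = (snd (Points.pointObj Y y) Z).left ∧ Flat F ∧
      (LocallyOfFiniteType (Y.hom.fiberToSpecResidueField s) →
        IsClosed ((Subtype.val : ↥(Y.hom.base ⁻¹' {s}) → Y.left) ⁻¹' {y}) → IsFinite F) := by
  subst hy
  let φ := Spec.map (Y.hom.residueFieldMap y)
  have hφ : φ ≫ S.fromSpecResidueField (Y.hom y) = (Points.pointObj Y y).hom :=
    Scheme.Hom.SpecMap_residueFieldMap_fromSpecResidueField _ _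
  let T := Points.pointObj Y y
  let F : (T ⊗ Z).left ⟶ Z.hom.fiber (Y.hom y) :=
    pullback.lift (pullback.snd T.hom Z.hom) (pullback.fst T.hom Z.hom ≫ φ)
      (by rw [Category.assoc, hφ]; exact pullback.condition.symm)
  have hF : IsPullback F (pullback.fst T.hom Z.hom) (pullback.snd Z.hom (S.fromSpecResidueField (Y.hom y))) φ := by
    refine IsPullback.of_right ?_ (pullback.lift_snd _ _ _) (IsPullback.of_hasPullback _ _).flip.flip
    have : F ≫ pullback.fst Z.hom (S.fromSpecResidueField (Y.hom y)) = pullback.snd T.hom Z.hom :=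
      pullback.lift_fst _ _ _
    rw [this, hφ]
    exact (IsPullback.of_hasPullback T.hom Z.hom).flip
  refine ⟨F, pullback.lift_fst _ _ _, ?_, fun hft hcl => ?_⟩
  · exact MorphismProperty.of_isPullback (P := @Flat) hF.flip
      (inferInstanceAs (Flat (Y := Spec (CommRingCat.of (S.residueField (Y.hom y)))) φ))
  · exact MorphismProperty.of_isPullback (P := @IsFinite) hF.flip
      (isFinite_residueFieldMap Y.hom y rfl hft hcl)

/-- Variant of `exists_toFibre` with the point on the right. -/
lemma exists_toFibre' {Y Z : Over S} (y : Y.left) {s : S} (hy : Y.hom y = s) :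
    ∃ F : (Z ⊗ Points.pointObj Y y).left ⟶ Z.hom.fiber s,
      F ≫ Z.hom.fiberι s = (fst Z (Points.pointObj Y y)).left ∧ Flat F ∧
      (LocallyOfFiniteType (Y.hom.fiberToSpecResidueField s) →
        IsClosed ((Subtype.val : ↥(Y.hom.base ⁻¹' {s}) → Y.left) ⁻¹' {y}) → IsFinite F) := by
  obtain ⟨F, hF, hflat, hfin⟩ := exists_toFibre (Z := Z) y hy
  have : IsIso (β_ Z (Points.pointObj Y y)).hom.left := Basic.isIso_left _
  refine ⟨(β_ Z (Points.pointObj Y y)).hom.left ≫ F, ?_,
    MorphismProperty.comp_mem @Flat _ _ inferInstance hflat, fun hft hcl => ?_⟩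
  · rw [Category.assoc, hF, ← Over.comp_left, braiding_hom_snd]
  · have := hfin hft hcl
    infer_instance

/-- Near a maximal point there is an open set of specializations of it. -/
lemma exists_open_specializations {F : Scheme.{u}} [IsLocallyNoetherian F] (γ : F)
    (hγ : Component.IsMaxGen γ) :
    ∃ O : F.Opens, γ ∈ O ∧ ∀ w ∈ O, γ ⤳ w := by
  obtain ⟨V, hV, hγV, -⟩ := exists_isAffineOpen_mem_and_subset (show γ ∈ (⊤ : F.Opens) from trivial)
  have : IsAffine (Scheme.Opens.toScheme V) := hV
  have : CompactSpace (Scheme.Opens.toScheme V) := inferInstance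
  have : IsLocallyNoetherian (Scheme.Opens.toScheme V) := inferInstance
  have : IsNoetherian (Scheme.Opens.toScheme V) := {}
  let γ' : Scheme.Opens.toScheme V := ⟨γ, hγV⟩
  let 𝒵 := irreducibleComponents (Scheme.Opens.toScheme V) \ {closure {γ'}}
  let C := ⋃ Z ∈ 𝒵, Z
  have hC : IsClosed C :=
    (TopologicalSpace.NoetherianSpace.finite_irreducibleComponents.subset Set.sdiff_subset).isClosed_biUnion
      fun Z hZ => isClosed_of_mem_irreducibleComponents Z hZ.1
  refine ⟨⟨Subtype.val '' Cᶜ, V.2.isOpenMap_subtype_val _ hC.isOpen_compl⟩, ⟨γ', ?_, rfl⟩, ?_⟩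
  · show γ' ∉ C
    intro hmem
    obtain ⟨Z, hZ, hγZ⟩ := Set.mem_iUnion₂.1 hmem
    obtain ⟨g, hg⟩ := QuasiSober.sober hZ.1.1 (isClosed_of_mem_irreducibleComponents Z hZ.1)
    have h1 : g.1 = γ := hγ _ ((hg.specializes hγZ).map continuous_subtype_val)
    exact hZ.2 ((Subtype.ext h1 : g = γ') ▸ hg.def.symm)
  · rintro _ ⟨w, hw, rfl⟩
    obtain ⟨Z, hZ, hwZ⟩ := Set.mem_sUnion.1
      ((sUnion_irreducibleComponents (X := (Scheme.Opens.toScheme V : Type u))).ge (Set.mem_univ w))
    have e : Z = closure {γ'} := by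
      by_contra e
      exact hw (Set.mem_iUnion₂.2 ⟨Z, ⟨hZ, e⟩, hwZ⟩)
    exact (specializes_iff_mem_closure.2 (e ▸ hwZ)).map continuous_subtype_val

end Groth.Agent.HomogOrbit27
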