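import Groth.Agent.HomogOrbit27.Max
import Groth.Agent.GrpScheme.IdComponent
import Groth.Agent.SchPoints.Basic

/-!
# Components of a scheme with a transitive action over a field

If a group scheme `G` over a field acts transitively on `X`, every point of `X` has a unique
maximal generalization, the orbit of a point under the identity component is the irreducible
component through it, and, if `X` is quasi-separated, the connected components are irreducible.
-/

set_option autoImplicit false
universe u

open CategoryTheory MonoidalCategory CartesianMonoidalCategory MonObj GrpObj AlgebraicGeometry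
  Limits

namespace Groth.Agent.HomogOrbit27

open Groth.Agent.GrpScheme Groth.Agent.GrpScheme.IdComponent

variable {K : Type u} [Field K] {G X : Over (Spec (CommRingCat.of K))} [GrpObj G]

/-- The identity component is stable under `(g, h) ↦ g⁻¹ h`. -/
lemma inv_mul_mem_range {T : Over (Spec (CommRingCat.of K))} (g h : T ⟶ zObj G) (t : T.left) :
    ((g ≫ zι G)⁻¹ * (h ≫ zι G)).left t ∈ Set.range (zι G).left := by
  let d : zObj G ⊗ zObj G ⟶ G :=
    (fst (zObj G) (zObj G) ≫ zι G)⁻¹ * (snd (zObj G) (zObj G) ≫ zι G)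
  have hd : ((g ≫ zι G)⁻¹ * (h ≫ zι G)).left t = d.left ((lift g h).left t) := by
    rw [← Points.comp_apply]
    simp [d, MonObj.comp_mul, GrpObj.comp_inv]
  have := irreducibleSpace_tensor G (zObj G)
  obtain ⟨c, hc⟩ := QuasiSober.sober
    ((IrreducibleSpace.isIrreducible_univ (zObj G ⊗ zObj G).left).image d.left
      d.left.continuous.continuousOn).closure isClosed_closure
  have hmem : ∀ q, c ⤳ d.left q := fun q => hc.specializes (subset_closure ⟨q, trivial, rfl⟩)
  -- the unit is a value
  obtain ⟨y, hy⟩ := e₀_mem G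
  let pt := Points.pointObj (zObj G) y
  let iy := Points.pointHom (zObj G) y
  obtain ⟨s⟩ := (inferInstance : Nonempty pt.left)
  have he : d.left ((lift iy iy).left s) = e₀ G := by
    rw [← Points.comp_apply, show lift iy iy ≫ d = 1 by simp [d, MonObj.comp_mul, GrpObj.comp_inv],
      Hom.one_def, Points.comp_apply]
    exact congrArg η[G].left (Subsingleton.elim (α := Spec (CommRingCat.of K)) _ _)
  have hcr : c ∈ Set.range (zι G).left := mem_range_of_specializes G (he ▸ hmem _)
  rw [hd]
  exact (hmem _).mem_closed (zι G).left.isClosedEmbedding.isClosed_range hcr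

variable (a : AlgGrp.Action G X)

/-- `(g, x) ↦ g x` for `g` in the identity component. -/
noncomputable def act₀ : zObj G ⊗ X ⟶ X := (zι G ▷ X) ≫ a.act

lemma lift_act₀ {T : Over (Spec (CommRingCat.of K))} (g : T ⟶ zObj G) (x : T ⟶ X) :
    lift g x ≫ act₀ a = Basic.smul a (g ≫ zι G) x := by
  simp [act₀, Basic.smul]

lemma isOpenMap_act₀ : IsOpenMap (act₀ a).left := by
  have h : act₀ a = (Basic.shear a (zι G)).hom ≫ snd (zObj G) X := by
    conv_lhs => rw [← Category.id_comp (act₀ a), ← lift_fst_snd, lift_act₀]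
    simp [Basic.shear]
  have : IsIso (Basic.shear a (zι G)).hom.left := Basic.isIso_left _
  have : UniversallyOpen (snd (zObj G) X).left :=
    Basic.snd_left_mem @UniversallyOpen (inferInstanceAs (UniversallyOpen (zObj G).hom))
  have : UniversallyOpen (act₀ a).left := by
    rw [h, Over.comp_left]; infer_instance
  exact Scheme.Hom.isOpenMap _

/-- Every point is reached from itself. -/
lemma exists_act₀_self (x : X.left) :
    ∃ p, (snd (zObj G) X).left p = x ∧ (act₀ a).left p = x := by
  obtain ⟨y, hy⟩ := e₀_mem G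
  obtain ⟨q, hq₁, hq₂⟩ := Scheme.Pullback.exists_preimage_pullback (f := (zObj G).hom) (g := X.hom) y x
    (Subsingleton.elim (α := Spec (CommRingCat.of K)) _ _)
  refine ⟨q, hq₂, ?_⟩
  let pq := Points.pointHom (zObj G ⊗ X) q
  obtain ⟨T', ⟨t'⟩, π, hπ⟩ := Component.exists_eq_one (pq ≫ fst (zObj G) X ≫ zι G) fun s => by
    rw [Points.comp_apply, Points.comp_apply, Points.pointHom_apply]
    exact (congrArg (zι G).left hq₁).trans hy
  have h := congr(($(show π ≫ pq ≫ act₀ a = π ≫ pq ≫ snd (zObj G) X by
    conv_lhs => rw [← Category.id_comp (act₀ a), ← lift_fst_snd, lift_act₀, Basic.comp_smul,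
      Basic.comp_smul, hπ, Basic.one_smul']).left t'))
  simp only [Points.comp_apply, pq, Points.pointHom_apply] at h
  exact h.trans hq₂

/-- The identity component stabilizes every irreducible component. -/
lemma specializes_act₀ {θ : X.left} (hθ : Component.IsMaxGen θ) (p : (zObj G ⊗ X).left)
    (hp : θ ⤳ (snd (zObj G) X).left p) : θ ⤳ (act₀ a).left p := by
  let Z : TopologicalSpace.Closeds X.left := ⟨closure {θ}, isClosed_closure⟩
  let C := Component.redSub X Z
  let ιC : C ⟶ X := Over.homMk (Scheme.IdealSheafData.vanishingIdeal Z).subschemeι rfl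
  have hr : Set.range ιC.left = closure {θ} :=
    (Scheme.IdealSheafData.range_subschemeι _).trans
      (Scheme.IdealSheafData.coe_support_vanishingIdeal _)
  have : IsClosedImmersion ιC.left :=
    inferInstanceAs (IsClosedImmersion (Scheme.IdealSheafData.vanishingIdeal Z).subschemeι)
  have : IrreducibleSpace C.left := by
    rw [ιC.left.isClosedEmbedding.isEmbedding.toHomeomorph.irreducibleSpace_iff]
    have hirr : IsIrreducible (Set.range ιC.left) := hr ▸ isIrreducible_singleton.closure
    haveI : Nonempty (Set.range ιC.left) := hirr.1.to_subtype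
    exact { toPreirreducibleSpace := Subtype.preirreducibleSpace hirr.2, toNonempty := inferInstance }
  have := irreducibleSpace_tensor G C
  let Ω : zObj G ⊗ C ⟶ X := (zObj G ◁ ιC) ≫ act₀ a
  obtain ⟨c, hc⟩ := QuasiSober.sober
    ((IrreducibleSpace.isIrreducible_univ (zObj G ⊗ C).left).image Ω.left
      Ω.left.continuous.continuousOn).closure isClosed_closure
  have hrange : ∀ q : (zObj G ⊗ X).left, θ ⤳ (snd (zObj G) X).left q → c ⤳ (act₀ a).left q := by
    intro q hq
    obtain ⟨v, hv⟩ : (snd (zObj G) X).left q ∈ Set.range ιC.left :=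
      hr ▸ specializes_iff_mem_closure.mp hq
    obtain ⟨q', hq'⟩ : ∃ q' : (zObj G ⊗ C).left, (zObj G ◁ ιC).left q' = q := by
      obtain ⟨q', hq', -⟩ := Scheme.exists_preimage_of_isPullback
        ((Basic.isPullback_whiskerLeft (R := zObj G) ιC).map (Over.forget _)) q v hv.symm
      exact ⟨q', hq'⟩
    refine (hc.specializes (subset_closure ⟨q', trivial, rfl⟩)).trans (specializes_of_eq ?_)
    show ((zObj G ◁ ιC) ≫ act₀ a).left q' = _
    rw [Points.comp_apply]
    exact congrArg _ hq'
  obtain ⟨p₀, h₁, h₂⟩ := exists_act₀_self a θ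
  have hcθ : c = θ := hθ _ (h₂ ▸ hrange p₀ (h₁ ▸ specializes_rfl))
  exact hcθ ▸ hrange p hp

variable (hΦ : Surjective (lift a.act (snd G X)).left)
include hΦ

/-- Some translate of `b` under the identity component is a maximal point. -/
lemma exists_act₀_max (b : X.left) :
    ∃ p, (snd (zObj G) X).left p = b ∧ Component.IsMaxGen ((act₀ a).left p) := by
  let T := Points.pointObj X b
  obtain ⟨y, hy⟩ := e₀_mem G
  obtain ⟨t⟩ := (inferInstance : Nonempty T.left)
  obtain ⟨q, -, -⟩ := Scheme.Pullback.exists_preimage_pullback (f := (zObj G).hom) (g := T.hom) y t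
    (Subsingleton.elim (α := Spec (CommRingCat.of K)) _ _)
  obtain ⟨P, hP, -⟩ := Component.exists_isMaxGen (X := (zObj G ⊗ T).left) q
  refine ⟨(zObj G ◁ Points.pointHom X b).left P, ?_, ?_⟩
  · rw [← Points.comp_apply, whiskerLeft_snd, Points.comp_apply, Points.pointHom_apply]
  · have : IsClosedImmersion (zι G ▷ T).left :=
      MorphismProperty.of_isPullback (P := @IsClosedImmersion)
        ((isPullback_whiskerRight (R := T) (zι G)).map (Over.forget _)).flip
        (inferInstanceAs (IsClosedImmersion (zι G).left))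
    have hmax : Component.IsMaxGen ((zι G ▷ T).left P) := fun w hw => by
      obtain ⟨m, hm, hmw⟩ := Component.exists_isMaxGen ((fst G T).left w)
      have h1 : m ∈ Set.range (zι G).left := by
        obtain ⟨n, hn, hne⟩ := Component.exists_isMaxGen (e₀ G)
        have hPr : (fst G T).left ((zι G ▷ T).left P) ∈ Set.range (zι G).left :=
          ⟨(fst (zObj G) T).left P, by rw [← Points.comp_apply, ← Points.comp_apply, whiskerRight_fst]⟩
        rw [range_zι] at hPr
        obtain ⟨n', hn'⟩ := QuasiSober.sober (isIrreducible_irreducibleComponent (x := e₀ G))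
          isClosed_irreducibleComponent
        have hn'max : Component.IsMaxGen n' := Component.isMaxGen_iff.mpr
          (hn'.def.symm ▸ irreducibleComponent_mem_irreducibleComponents _)
        rw [Component.uniqueComp G _ m n' hm hn'max (hmw.trans (hw.map (fst G T).left.continuous))
          (hn'.specializes hPr), range_zι]
        exact hn'.mem
      have h2 : (fst G T).left w ∈ Set.range (zι G).left :=
        hmw.mem_closed (zι G).left.isClosedEmbedding.isClosed_range h1
      obtain ⟨v, hv⟩ := h2
      obtain ⟨w', hw', -⟩ := Scheme.exists_preimage_of_isPullback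
        ((isPullback_whiskerRight (R := T) (zι G)).map (Over.forget _)) w v hv.symm
      replace hw' : (zι G ▷ T).left w' = w := hw'
      subst hw'
      rw [hP w' ((zι G ▷ T).left.isEmbedding.specializes_iff.mp hw)]
    have h := isMaxGen_orb a hΦ b hmax
    have hflat : Flat (fst X T).left := by
      have : Flat (snd T X).left := Basic.snd_left_mem @Flat
        (inferInstanceAs (Flat (Y := Spec (CommRingCat.of K)) T.hom))
      have : IsIso (β_ X T).hom.left := Basic.isIso_left _
      rw [← braiding_hom_snd, Over.comp_left]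
      exact MorphismProperty.comp_mem @Flat _ _ inferInstance ‹_›
    have e : (zObj G ◁ Points.pointHom X b) ≫ act₀ a = (zι G ▷ T) ≫ orb a b ≫ fst X T := by
      rw [orb, lift_fst, act₀, ← Category.assoc, ← Category.assoc, whisker_exchange]
    rw [← Points.comp_apply, e, Points.comp_apply, Points.comp_apply]
    exact isMaxGen_map _ h

/-- Every point has a unique maximal generalization. -/
theorem uniqueComp (b : X.left) : Component.UniqueComp b := fun θ θ' hθ hθ' h h' => by
  obtain ⟨p, hp, hmax⟩ := exists_act₀_max a hΦ b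
  rw [hmax θ (specializes_act₀ a hθ p (hp ▸ h)), hmax θ' (specializes_act₀ a hθ' p (hp ▸ h'))]

/-- The maximal generalization is a translate by the identity component. -/
theorem exists_act₀_of_specializes {θ b : X.left} (hθ : Component.IsMaxGen θ) (h : θ ⤳ b) :
    ∃ p, (snd (zObj G) X).left p = b ∧ (act₀ a).left p = θ := by
  obtain ⟨p, hp, hmax⟩ := exists_act₀_max a hΦ b
  exact ⟨p, hp, (hmax θ (specializes_act₀ a hθ p (hp ▸ h))).symm⟩

/-- Conversely the point is a translate of its maximal generalization. -/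
theorem exists_act₀_of_isMaxGen {θ b : X.left} (hθ : Component.IsMaxGen θ) (h : θ ⤳ b) :
    ∃ p, (snd (zObj G) X).left p = θ ∧ (act₀ a).left p = b := by
  obtain ⟨p, hp, hpθ⟩ := exists_act₀_of_specializes a hΦ hθ h
  let pq := Points.pointHom (zObj G ⊗ X) p
  let g := pq ≫ fst (zObj G) X
  obtain ⟨y, hy⟩ := e₀_mem G
  let iy := Points.pointHom (zObj G) y
  obtain ⟨ty⟩ := (inferInstance : Nonempty (Points.pointObj (zObj G) y).left)
  obtain ⟨T', ⟨t⟩, π, h', e⟩ := Points.exists_lift (zι G) (g ≫ zι G)⁻¹ fun s => by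
    obtain ⟨q, hq₁, hq₂⟩ := Scheme.Pullback.exists_preimage_pullback
      (f := (Points.pointObj (zObj G ⊗ X) p).hom) (g := (Points.pointObj (zObj G) y).hom) s ty
      (Subsingleton.elim (α := Spec (CommRingCat.of K)) _ _)
    let P := Points.pointObj (zObj G ⊗ X) p ⊗ Points.pointObj (zObj G) y
    let pq' := Points.pointHom P q
    obtain ⟨T'', ⟨t''⟩, π', hπ'⟩ := Component.exists_eq_one (pq' ≫ snd _ _ ≫ iy ≫ zι G) fun s => by
      rw [Points.comp_apply, Points.comp_apply, Points.comp_apply, Points.pointHom_apply]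
      exact hy
    have hmem := inv_mul_mem_range (π' ≫ pq' ≫ fst _ _ ≫ g) (π' ≫ pq' ≫ snd _ _ ≫ iy) t''
    rw [show (π' ≫ pq' ≫ snd _ _ ≫ iy) ≫ zι G = 1 by simpa [Category.assoc] using hπ',
      _root_.mul_one] at hmem
    convert hmem using 1
    rw [show ((π' ≫ pq' ≫ fst _ _ ≫ g) ≫ zι G)⁻¹ = π' ≫ pq' ≫ fst _ _ ≫ (g ≫ zι G)⁻¹ by
      simp [GrpObj.comp_inv], Points.comp_apply, Points.comp_apply, Points.comp_apply,
      Points.pointHom_apply]
    exact congrArg _ hq₁.symm
  refine ⟨(lift h' (π ≫ pq ≫ act₀ a)).left t, ?_, ?_⟩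
  · rw [← Points.comp_apply, lift_snd, Points.comp_apply, Points.comp_apply, Points.pointHom_apply, hpθ]
  · have e' : lift h' (π ≫ pq ≫ act₀ a) ≫ act₀ a = π ≫ pq ≫ snd (zObj G) X := by
      rw [lift_act₀, e]
      conv_lhs => rw [← Category.id_comp (act₀ a), ← lift_fst_snd, lift_act₀]
      simp only [g, GrpObj.comp_inv, Basic.comp_smul, Category.assoc, Basic.inv_smul_smul']
    rw [← Points.comp_apply, e', Points.comp_apply, Points.comp_apply, Points.pointHom_apply, hp]

/-- In a quasi-separated scheme with transitive action connected components are irreducible. -/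
theorem connectedComponent_eq [QuasiSeparatedSpace X.left] {θ x : X.left}
    (hθ : Component.IsMaxGen θ) (h : θ ⤳ x) : connectedComponent x = closure {θ} := by
  refine subset_antisymm (fun y hy => ?_) ?_
  · obtain ⟨θ', hθ', hθ'y⟩ := Component.exists_isMaxGen y
    rw [← specializes_iff_mem_closure]
    suffices θ' = θ from this ▸ hθ'y
    by_contra hne
    obtain ⟨O, hO, hθO, hθ'O⟩ : ∃ O, IsOpen O ∧ θ ∈ O ∧ θ' ∉ O :=
      not_specializes_iff_exists_open.mp fun hs => hne (hθ _ hs)
    obtain ⟨V, hV, hθV, hVO⟩ := exists_isAffineOpen_mem_and_subset (U := ⟨O, hO⟩) hθO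
    let Sat : Set X.left := (act₀ a).left '' ((snd (zObj G) X).left ⁻¹' (V : Set X.left))
    have hmem : ∀ z θ₀, Component.IsMaxGen θ₀ → θ₀ ⤳ z → (z ∈ Sat ↔ θ₀ ∈ V) := fun z θ₀ hθ₀ hz => by
      refine ⟨?_, fun hV' => ?_⟩
      · rintro ⟨p, hp, rfl⟩
        obtain ⟨θ₁, hθ₁, hθ₁p⟩ := Component.exists_isMaxGen ((snd (zObj G) X).left p)
        rw [uniqueComp a hΦ _ θ₀ θ₁ hθ₀ hθ₁ hz (specializes_act₀ a hθ₁ p hθ₁p)]
        exact hθ₁p.mem_open V.2 hp
      · obtain ⟨p, hp₁, hp₂⟩ := exists_act₀_of_isMaxGen a hΦ hθ₀ hz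
        exact ⟨p, show (snd (zObj G) X).left p ∈ V from hp₁ ▸ hV', hp₂⟩
    have hopen : IsOpen Sat := isOpenMap_act₀ a _ (V.2.preimage (snd (zObj G) X).left.continuous)
    have hclosed : IsClosed Sat := by
      rw [← isOpen_compl_iff, isOpen_iff_forall_mem_open]
      intro z hz
      obtain ⟨θ₀, hθ₀, hθ₀z⟩ := Component.exists_isMaxGen z
      have hθ₀V : θ₀ ∉ V := fun h0 => hz ((hmem z θ₀ hθ₀ hθ₀z).mpr h0)
      have : QuasiCompact V.ι := ⟨fun U hU hUc => by
        rw [V.ι.isOpenEmbedding.isEmbedding.isCompact_iff, Set.image_preimage_eq_inter_range,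
          Scheme.Opens.range_ι]
        exact QuasiSeparatedSpace.inter_isCompact U V hU hUc V.2 hV.isCompact⟩
      have hncl : θ₀ ∉ closure (V : Set X.left) := fun hcl => by
        rw [← V.range_ι] at hcl
        obtain ⟨v, hv⟩ := SchPoints.exists_specializes_of_mem_closure_range V.ι hcl
        have hvV : V.ι v ∈ (V : Set X.left) := v.2
        exact hθ₀V (hθ₀ _ hv ▸ hvV)
      let W : Set X.left :=
        (act₀ a).left '' ((snd (zObj G) X).left ⁻¹' (closure (V : Set X.left))ᶜ)
      refine ⟨W, ?_, isOpenMap_act₀ a _ (isClosed_closure.isOpen_compl.preimage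
        (snd (zObj G) X).left.continuous), ?_⟩
      · rintro _ ⟨p, hp, rfl⟩ hS
        obtain ⟨θ₁, hθ₁, hθ₁p⟩ := Component.exists_isMaxGen ((snd (zObj G) X).left p)
        exact hp (hθ₁p.mem_closed isClosed_closure (subset_closure
          ((hmem _ θ₁ hθ₁ (specializes_act₀ a hθ₁ p hθ₁p)).mp hS)))
      · obtain ⟨p, hp₁, hp₂⟩ := exists_act₀_of_isMaxGen a hΦ hθ₀ hθ₀z
        exact ⟨p, show (snd (zObj G) X).left p ∈ (closure (V : Set X.left))ᶜ from hp₁ ▸ hncl, hp₂⟩
    have hxS : x ∈ Sat := (hmem x θ hθ h).mpr hθV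
    exact hθ'O (hVO ((hmem y θ' hθ' hθ'y).mp
      ((IsClopen.connectedComponent_subset ⟨hclosed, hopen⟩ hxS) hy)))
  · exact isConnected_singleton.closure.isPreconnected.subset_connectedComponent
      (specializes_iff_mem_closure.mp h)

end Groth.Agent.HomogOrbit27
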