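import Groth.Agent.GrpScheme.Component
import Mathlib.AlgebraicGeometry.Morphisms.Preimmersion
import Mathlib.AlgebraicGeometry.Morphisms.Flat

/-!
# Orbit maps at points of a transitive action preserve maximal points

For an `S`-group `G` acting on `X` with `(g, x) ↦ (g x, x)` surjective and a point `b` of `X`, the
map `(g, r) ↦ (g b, r)` from `G ×_S b` to `X ×_S b` sends maximal points to maximal points. No
finiteness is needed.
-/

set_option autoImplicit false
universe u

open CategoryTheory MonoidalCategory CartesianMonoidalCategory MonObj GrpObj AlgebraicGeometry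
  Limits

namespace Groth.Agent.HomogOrbit27

open Groth.Agent.GrpScheme Groth.Agent.GrpScheme.Component

variable {S : Scheme.{u}}

/-- A flat morphism maps maximal points to maximal points. -/
lemma isMaxGen_map {X Y : Scheme.{u}} (f : X ⟶ Y) [Flat f] {x : X} (hx : IsMaxGen x) :
    IsMaxGen (f x) := fun w hw => by
  obtain ⟨x', h1, h2⟩ := Flat.generalizingMap f hw
  rw [← h2, hx x' h1]

/-- Right whiskering is a pullback. -/
lemma isPullback_whiskerRight {A B R : Over S} (f : A ⟶ B) :
    IsPullback (f ▷ R) (fst A R) (fst B R) f where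
  w := whiskerRight_fst f R
  isLimit' := ⟨PullbackCone.IsLimit.mk _ (fun s => lift s.snd (s.fst ≫ snd B R))
    (fun s => CartesianMonoidalCategory.hom_ext _ _ (by simp [s.condition]) (by simp))
    (fun s => lift_fst _ _)
    (fun s m hm₁ hm₂ => CartesianMonoidalCategory.hom_ext _ _ (by simpa using hm₂)
      (by simp [← hm₁]))⟩

variable {G X : Over S} [GrpObj G] (a : AlgGrp.Action G X)

/-- The point object at `b`. -/
noncomputable abbrev pt (X : Over S) (b : X.left) : Over S := Points.pointObj X b

/-- `(g, r) ↦ (g b, r)`. -/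
noncomputable def orb (b : X.left) : G ⊗ pt X b ⟶ X ⊗ pt X b :=
  lift ((G ◁ Points.pointHom X b) ≫ a.act) (snd G (pt X b))

lemma comp_orb (b : X.left) {T : Over S} (g : T ⟶ G) (r : T ⟶ pt X b) :
    lift g r ≫ orb a b = lift (Basic.smul a g (r ≫ Points.pointHom X b)) r := by
  simp [orb, comp_lift, lift_whiskerLeft_assoc, Basic.smul]

/-- The orbit map is surjective when the action is transitive. -/
lemma surjective_orb (hΦ : Surjective (lift a.act (snd G X)).left) (b : X.left) :
    Function.Surjective (orb a b).left := fun w => by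
  let T := Points.pointObj (X ⊗ pt X b) w
  let q : T ⟶ X ⊗ pt X b := Points.pointHom _ w
  obtain ⟨T', ⟨t⟩, π, h, e⟩ := Points.exists_lift (lift a.act (snd G X))
    (q ≫ (X ◁ Points.pointHom X b)) (fun _ => hΦ.surj _)
  have e1 := congrArg (· ≫ fst X X) e
  have e2 := congrArg (· ≫ snd X X) e
  simp only [Category.assoc, lift_fst, lift_snd, whiskerLeft_fst, whiskerLeft_snd] at e1 e2
  refine ⟨(lift (h ≫ fst G X) (π ≫ q ≫ snd X (pt X b))).left t, ?_⟩
  rw [← Points.comp_apply, comp_orb]
  have h1 : lift (Basic.smul a (h ≫ fst G X) ((π ≫ q ≫ snd X (pt X b)) ≫ Points.pointHom X b))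
      (π ≫ q ≫ snd X (pt X b)) = π ≫ q := by
    refine CartesianMonoidalCategory.hom_ext _ _ ?_ (by simp)
    rw [lift_fst, Category.assoc, Category.assoc, ← e2, Category.assoc, Basic.smul,
      ← comp_lift_assoc, lift_fst_snd, Category.id_comp, e1]
  rw [h1, Points.comp_apply, Points.pointHom_apply]

/-- `(h, (g, r)) ↦ (h, (h g, r))`. -/
noncomputable def shG (G R : Over S) [GrpObj G] : G ⊗ (G ⊗ R) ≅ G ⊗ (G ⊗ R) where
  hom := lift (fst _ _) (lift (fst _ _ * (snd _ _ ≫ fst G R)) (snd _ _ ≫ snd G R))
  inv := lift (fst _ _) (lift ((fst _ _)⁻¹ * (snd _ _ ≫ fst G R)) (snd _ _ ≫ snd G R))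
  hom_inv_id := by
    refine CartesianMonoidalCategory.hom_ext _ _ (by simp) ?_
    refine CartesianMonoidalCategory.hom_ext _ _ ?_ (by simp)
    simp [MonObj.comp_mul, GrpObj.comp_inv]
  inv_hom_id := by
    refine CartesianMonoidalCategory.hom_ext _ _ (by simp) ?_
    refine CartesianMonoidalCategory.hom_ext _ _ ?_ (by simp)
    simp [MonObj.comp_mul, GrpObj.comp_inv]

/-- `(h, (x, r)) ↦ (h, (h x, r))`. -/
noncomputable def shX (R : Over S) : G ⊗ (X ⊗ R) ≅ G ⊗ (X ⊗ R) where
  hom := lift (fst _ _) (lift (Basic.smul a (fst _ _) (snd _ _ ≫ fst X R)) (snd _ _ ≫ snd X R))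
  inv := lift (fst _ _) (lift (Basic.smul a (fst _ _)⁻¹ (snd _ _ ≫ fst X R)) (snd _ _ ≫ snd X R))
  hom_inv_id := by
    refine CartesianMonoidalCategory.hom_ext _ _ (by simp) ?_
    refine CartesianMonoidalCategory.hom_ext _ _ ?_ (by simp)
    simp [Basic.comp_smul, GrpObj.comp_inv, Basic.inv_smul_smul']
  inv_hom_id := by
    refine CartesianMonoidalCategory.hom_ext _ _ (by simp) ?_
    refine CartesianMonoidalCategory.hom_ext _ _ ?_ (by simp)
    simp [Basic.comp_smul, GrpObj.comp_inv, Basic.smul_inv_smul']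

lemma lift_shG_snd {G R P : Over S} [GrpObj G] (h : P ⟶ G) (m : P ⟶ G ⊗ R) :
    lift h m ≫ (shG G R).hom ≫ snd G (G ⊗ R) = lift (h * (m ≫ fst G R)) (m ≫ snd G R) := by
  simp [shG, comp_lift, MonObj.comp_mul]

lemma shG_comp_orb (b : X.left) :
    (shG G (pt X b)).hom ≫ (G ◁ orb a b) = (G ◁ orb a b) ≫ (shX a (pt X b)).hom := by
  have horb : orb a b = lift (Basic.smul a (fst G (pt X b)) (snd G (pt X b) ≫ Points.pointHom X b))
      (snd G (pt X b)) := by
    rw [← comp_orb, lift_fst_snd, Category.id_comp]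
  refine CartesianMonoidalCategory.hom_ext _ _ (by simp [shG, shX]) ?_
  rw [Category.assoc, whiskerLeft_snd, shG, lift_snd_assoc, comp_orb]
  simp only [shX, horb, whiskerLeft_fst, whiskerLeft_snd_assoc, Category.assoc, lift_fst, lift_snd,
    comp_lift, Basic.comp_smul, Basic.mul_smul']

/-- Projection from a product with a point object is flat. -/
lemma flat_to_pt (b : X.left) {Z : Over S} (f : Z ⟶ pt X b) : Flat f.left :=
  inferInstanceAs (Flat (Y := Spec (CommRingCat.of (X.left.residueField b))) f.left)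

lemma flat_pointObj_hom {Y Z : Over S} (y : Y.left) (f : Z ⟶ Points.pointObj Y y) : Flat f.left :=
  inferInstanceAs (Flat (Y := Spec (CommRingCat.of (Y.left.residueField y))) f.left)

/-- The projection to `X × b` is flat. -/
lemma flat_snd (b : X.left) (M : Over S) (p : M ⟶ pt X b) : Flat (snd G M).left := by
  have h : IsPullback (G ◁ p) (snd G M) (snd G (pt X b)) p := Basic.isPullback_whiskerLeft p
  exact MorphismProperty.of_isPullback (P := @Flat) (h.map (Over.forget S))
    (flat_to_pt b (snd G (pt X b)))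

/-- The orbit map at a point of a transitive action maps maximal points to maximal points. -/
theorem isMaxGen_orb (hΦ : Surjective (lift a.act (snd G X)).left) (b : X.left)
    {γ' : (G ⊗ pt X b).left} (hγ' : IsMaxGen γ') : IsMaxGen ((orb a b).left γ') := by
  let N := G ⊗ pt X b
  let M := X ⊗ pt X b
  let o : N ⟶ M := orb a b
  -- a maximal point over a maximal point
  obtain ⟨θ, hθ, -⟩ := exists_isMaxGen (o.left γ')
  obtain ⟨γ₀, hγ₀⟩ := surjective_orb a hΦ b θ
  obtain ⟨γ, hγ, hγγ₀⟩ := exists_isMaxGen γ₀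
  have hoγ : IsMaxGen (o.left γ) := by
    have : o.left γ = θ := hθ _ (hγ₀ ▸ hγγ₀.map o.left.continuous)
    rwa [this]
  -- a point of `G` carrying `γ` to `γ'`
  let T := Points.pointObj N γ
  let T' := Points.pointObj N γ'
  let u : T ⟶ pt X b := Points.pointHom N γ ≫ snd G (pt X b)
  let u' : T' ⟶ pt X b := Points.pointHom N γ' ≫ snd G (pt X b)
  obtain ⟨tγ⟩ := (inferInstance : Nonempty T.left)
  obtain ⟨tγ'⟩ := (inferInstance : Nonempty T'.left)
  obtain ⟨t, -, -⟩ := Scheme.Pullback.exists_preimage_pullback (f := u.left) (g := u'.left) tγ tγ'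
    (Subsingleton.elim (α := Spec (CommRingCat.of (X.left.residueField b))) _ _)
  let P : Over S := Over.mk (pullback.fst u.left u'.left ≫ T.hom)
  let p₁ : P ⟶ T := Over.homMk (pullback.fst u.left u'.left) rfl
  let p₂ : P ⟶ T' := Over.homMk (pullback.snd u.left u'.left) (by
    show pullback.snd u.left u'.left ≫ T'.hom = pullback.fst u.left u'.left ≫ T.hom
    rw [← Over.w u, ← Over.w u', ← Category.assoc, ← pullback.condition, Category.assoc])
  have hp : p₁ ≫ u = p₂ ≫ u' := Over.OverMorphism.ext pullback.condition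
  let g : P ⟶ G := p₁ ≫ Points.pointHom N γ ≫ fst G (pt X b)
  let g' : P ⟶ G := p₂ ≫ Points.pointHom N γ' ≫ fst G (pt X b)
  let q₀ : (G ⊗ N).left := (lift (g' * g⁻¹) (p₁ ≫ Points.pointHom N γ)).left t
  obtain ⟨q, hq, hqq₀⟩ := exists_isMaxGen q₀
  have hs₀ : (snd G N).left q₀ = γ := by
    show (snd G N).left ((lift (g' * g⁻¹) (p₁ ≫ Points.pointHom N γ)).left t) = γ
    rw [← Points.comp_apply, lift_snd, Points.comp_apply, Points.pointHom_apply]
  have hμ₀ : ((shG G (pt X b)).hom ≫ snd G N).left q₀ = γ' := by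
    show ((shG G (pt X b)).hom ≫ snd G N).left
      ((lift (g' * g⁻¹) (p₁ ≫ Points.pointHom N γ)).left t) = γ'
    rw [← Points.comp_apply, show lift (g' * g⁻¹) (p₁ ≫ Points.pointHom N γ) ≫
        (shG G (pt X b)).hom ≫ snd G N = p₂ ≫ Points.pointHom N γ' by
      refine (lift_shG_snd (g' * g⁻¹) (p₁ ≫ Points.pointHom N γ)).trans ?_
      refine CartesianMonoidalCategory.hom_ext _ _ ((lift_fst _ _).trans ?_) ((lift_snd _ _).trans ?_)
      · simp only [Category.assoc]
        exact inv_mul_cancel_right g' g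
      · simp only [Category.assoc]
        exact hp, Points.comp_apply, Points.pointHom_apply]
  have hs : (snd G N).left q = γ := hγ _ (hs₀ ▸ hqq₀.map (snd G N).left.continuous)
  have hμ : ((shG G (pt X b)).hom ≫ snd G N).left q = γ' :=
    hγ' _ (hμ₀ ▸ hqq₀.map ((shG G (pt X b)).hom ≫ snd G N).left.continuous)
  -- its image is maximal
  let y : (G ⊗ M).left := (G ◁ o).left q
  have hys : (snd G M).left y = o.left γ := by
    show (snd G M).left ((G ◁ o).left q) = o.left γ
    rw [← Points.comp_apply, whiskerLeft_snd, Points.comp_apply, hs]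
  have hy : IsMaxGen y := fun y' hy' => by
    let θ' := o.left γ
    let Tθ := Points.pointObj M θ'
    have hs' : (snd G M).left y' = θ' := hoγ _ (hys ▸ hy'.map (snd G M).left.continuous)
    let ζ : Points.pointObj N γ ⟶ Tθ := Over.homMk (Spec.map (o.left.residueFieldMap γ)) (by
      show Spec.map (o.left.residueFieldMap γ) ≫ M.left.fromSpecResidueField θ' ≫ M.hom =
        N.left.fromSpecResidueField γ ≫ N.hom
      rw [Scheme.Hom.SpecMap_residueFieldMap_fromSpecResidueField_assoc, Over.w])
    have hζ : ζ ≫ Points.pointHom M θ' = Points.pointHom N γ ≫ o :=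
      Over.OverMorphism.ext (Scheme.Hom.SpecMap_residueFieldMap_fromSpecResidueField _ _)
    have : Flat (G ◁ ζ).left := Basic.whiskerLeft_mem @Flat ζ G (flat_pointObj_hom _ ζ)
    have : IsPreimmersion (Points.pointHom N γ).left :=
      inferInstanceAs (IsPreimmersion (N.left.fromSpecResidueField γ))
    have : IsPreimmersion (Points.pointHom M θ').left :=
      inferInstanceAs (IsPreimmersion (M.left.fromSpecResidueField θ'))
    have := Basic.whiskerLeft_mem @IsPreimmersion (Points.pointHom N γ) G inferInstance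
    have := Basic.whiskerLeft_mem @IsPreimmersion (Points.pointHom M θ') G inferInstance
    obtain ⟨q', hq'⟩ : ∃ q' : (G ⊗ Points.pointObj N γ).left,
        (G ◁ Points.pointHom N γ).left q' = q := by
      obtain ⟨q', hq', -⟩ := Scheme.exists_preimage_of_isPullback
        ((Basic.isPullback_whiskerLeft (R := G) (Points.pointHom N γ)).map (Over.forget S)) q
        (IsLocalRing.closedPoint (N.left.residueField γ))
        (hs.trans (Points.pointHom_apply N γ _).symm)
      exact ⟨q', hq'⟩
    obtain ⟨y'', hy''⟩ : ∃ y'' : (G ⊗ Points.pointObj M θ').left,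
        (G ◁ Points.pointHom M θ').left y'' = y' := by
      obtain ⟨y'', hy'', -⟩ := Scheme.exists_preimage_of_isPullback
        ((Basic.isPullback_whiskerLeft (R := G) (Points.pointHom M θ')).map (Over.forget S)) y'
        (IsLocalRing.closedPoint (M.left.residueField θ'))
        (hs'.trans (Points.pointHom_apply M θ' _).symm)
      exact ⟨y'', hy''⟩
    have hq'max : IsMaxGen q' := fun w hw =>
      (G ◁ Points.pointHom N γ).left.isEmbedding.injective
        ((hq _ (hq' ▸ hw.map (G ◁ Points.pointHom N γ).left.continuous)).trans hq'.symm)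
    have hy₀ : (G ◁ Points.pointHom M θ').left ((G ◁ ζ).left q') = y := by
      rw [← Points.comp_apply, ← MonoidalCategory.whiskerLeft_comp, hζ,
        MonoidalCategory.whiskerLeft_comp, Points.comp_apply, hq']
    have hle : y'' ⤳ (G ◁ ζ).left q' := by
      rw [← (G ◁ Points.pointHom M θ').left.isEmbedding.specializes_iff]
      show (G ◁ Points.pointHom M θ').left y'' ⤳ (G ◁ Points.pointHom M θ').left ((G ◁ ζ).left q')
      rw [hy'', hy₀]
      exact hy'
    rw [← hy'', isMaxGen_map (G ◁ ζ).left hq'max y'' hle, hy₀]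
  have : IsIso (shX a (pt X b)).hom.left := Basic.isIso_left _
  have : Flat (snd G M).left := flat_snd b M (snd X (pt X b))
  have key : o.left γ' = (snd G M).left ((shX a (pt X b)).hom.left y) := by
    show o.left γ' = (snd G M).left ((shX a (pt X b)).hom.left ((G ◁ o).left q))
    rw [← hμ, ← Points.comp_apply, ← Points.comp_apply, ← Points.comp_apply,
      ← Category.assoc (G ◁ o), ← shG_comp_orb, Category.assoc, Category.assoc, whiskerLeft_snd]
  show IsMaxGen (o.left γ')
  rw [key]
  exact isMaxGen_map _ (isMaxGen_map _ hy)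

end Groth.Agent.HomogOrbit27
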